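import Cfsg.Agent.H86.ThreeSizes.Local

/-!
# Conjugacy of large centralisers

Let `z₀` be central in a Sylow `q`-subgroup `S` modulo the centre. The centraliser of `z₀` in `S` has
index at most `q`, so that every `q`-element whose centraliser has a large `q`-part lies in a conjugate of it.
-/

set_option autoImplicit false
set_option linter.style.haveILetI false
set_option linter.unusedSectionVars false

namespace Cfsg.Agent.H86.ThreeSizes

open Subgroup
open Cfsg.Agent.Hall.TwoSizes (IsQ)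
open Cfsg.Agent.H86.ClassSizes
open scoped IsMulCommutative

universe u

theorem pow_val_add {M : Type*} [Monoid M] {q : ℕ} [Fact q.Prime] {a : M} (h : a ^ q = 1)
    (x y : ZMod q) : a ^ (x + y).val = a ^ x.val * a ^ y.val := by
  rw [← pow_add, ZMod.val_add, ← pow_eq_pow_mod _ h]

theorem pow_val_mul {M : Type*} [Monoid M] {q : ℕ} [Fact q.Prime] {a : M} (h : a ^ q = 1)
    (x y : ZMod q) : a ^ (x * y).val = (a ^ x.val) ^ y.val := by
  rw [← pow_mul, ZMod.val_mul, ← pow_eq_pow_mod _ h]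

/-- Sum the lines through the origin of a plane. -/
theorem pow_mem_of_plane {M : Type*} [CommGroup M] {N : Subgroup M} {q : ℕ} [Fact q.Prime]
    (e : ZMod q → ZMod q → M) (h1 : ∀ j, ∏ i, e i (i * j) ∈ N) (h2 : ∀ i, ∏ b, e i b ∈ N) :
    e 0 0 ^ q ∈ N := by
  classical
  have h : ∏ j, ∏ i, e i (i * j) ∈ N := prod_mem fun j _ => h1 j
  rw [Finset.prod_comm, ← Finset.mul_prod_erase _ _ (Finset.mem_univ (0 : ZMod q))] at h
  simp only [zero_mul, Finset.prod_const, Finset.card_univ, ZMod.card] at h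
  refine (mul_mem_cancel_right (prod_mem fun i hi => ?_)).1 h
  rw [show ∏ j, e i (i * j) = ∏ b, e i b from
    Equiv.prod_comp (Equiv.mulLeft₀ i (Finset.ne_of_mem_erase hi)) (e i)]
  exact h2 i

variable {G : Type u} [Group G] [Finite G]

/-- An element of a Sylow subgroup which is central in it modulo the centre of the group. -/
structure CentralData (q : ℕ) (S : Sylow q G) (z : G) : Prop where
  mem : z ∈ (S : Subgroup G)
  nc : z ∉ center G
  comm : ∀ t ∈ (S : Subgroup G), t * z * t⁻¹ * z⁻¹ ∈ center G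
  pow : z ^ q ∈ center G

theorem exists_centralData {q : ℕ} [hq : Fact q.Prime] (hd : q ∣ (center G).index) :
    ∃ (S : Sylow q G) (z : G), CentralData q S z := by
  obtain ⟨S⟩ := (inferInstance : Nonempty (Sylow q G))
  set f := QuotientGroup.mk' (center G)
  set T := (S : Subgroup G).map f with hT
  have hTne : T ≠ ⊥ := fun e => by
    rw [hT, Subgroup.map_eq_bot_iff, QuotientGroup.ker_mk'] at e
    exact S.not_dvd_index (hd.trans (index_dvd_of_le e))
  haveI : Nontrivial ↥T := (nontrivial_iff_ne_bot T).2 hTne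
  obtain ⟨⟨v, t, ht, rfl⟩, -, hc, ho⟩ :=
    PGroups.exists_mem_center_orderOf_eq (S.isPGroup'.map f) (⊤ : Subgroup ↥T) top_ne_bot
  replace ho : orderOf (f t) = q := by rw [← ho, ← orderOf_coe]
  refine ⟨S, t, ht, fun hz => ?_, fun u hu => ?_, ?_⟩
  · rw [show f t = 1 from (QuotientGroup.eq_one_iff t).2 hz, orderOf_one] at ho
    exact hq.out.ne_one ho.symm
  · have e : f u * f t = f t * f u :=
      congrArg Subtype.val (mem_center_iff.1 hc ⟨f u, mem_map_of_mem f hu⟩)
    refine (QuotientGroup.eq_one_iff _).1 ?_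
    change f (u * t * u⁻¹ * t⁻¹) = 1
    rw [map_mul, map_mul, map_mul, map_inv, map_inv, e, mul_inv_cancel_right, mul_inv_cancel]
  · refine (QuotientGroup.eq_one_iff _).1 ?_
    change f (t ^ q) = 1
    rw [map_pow, ← ho]
    exact pow_orderOf_eq_one _

namespace CentralData

variable {q : ℕ} [hq : Fact q.Prime] {S : Sylow q G} {z : G}

theorem isQ (D : CentralData q S z) : IsQ q z := IsQ.of_mem S.isPGroup' D.mem

theorem conj_eq (D : CentralData q S z) {t : G} (ht : t ∈ (S : Subgroup G)) :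
    ∃ c ∈ center G, t * z * t⁻¹ = c * z :=
  ⟨_, D.comm t ht, (inv_mul_cancel_right _ _).symm⟩

theorem conj_mem_cz (D : CentralData q S z) {t y : G} (ht : t ∈ (S : Subgroup G)) (hy : y ∈ cz z) :
    t * y * t⁻¹ ∈ cz z := by
  obtain ⟨c, hc, e⟩ := D.conj_eq ht
  have h := commute_conj t (mem_cz.1 hy)
  rw [e] at h
  have hcc : Commute (t * y * t⁻¹) c⁻¹ := mem_center_iff.1 (inv_mem hc) (t * y * t⁻¹)
  have h' := hcc.mul_right h
  rw [inv_mul_cancel_left] at h'
  exact mem_cz.2 h'

theorem not_dvd_relIndex (D : CentralData q S z) :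
    ¬ q ∣ ((S : Subgroup G) ⊓ cz z).relIndex (cz z) := by
  set M := normalizer (cz z : Set G) with hM
  have hSM : (S : Subgroup G) ≤ M := fun t ht => mem_normalizer_iff.2 fun y =>
    ⟨fun hy => D.conj_mem_cz ht hy, fun hy => by
      simpa [mul_assoc] using D.conj_mem_cz (inv_mem ht) hy⟩
  haveI : ((cz z).subgroupOf M).Normal := normal_in_normalizer
  have h := H41.not_dvd_relIndex_sylow (S.subtype hSM) ((cz z).subgroupOf M)
  rw [Sylow.coe_subtype, relIndex_subgroupOf (le_normalizer : cz z ≤ M)] at h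
  rwa [inf_relIndex_right]

/-- The centraliser of `z` in `S` has index at most `q`. -/
theorem relIndex_le (D : CentralData q S z) {s : ℕ} (hs : s.Prime) (hqs : q ≠ s)
    (h : Tight q s z) (hd : s ∣ mz z) :
    ((S : Subgroup G) ⊓ cz z).relIndex (S : Subgroup G) ≤ q := by
  classical
  haveI : Fact s.Prime := ⟨hs⟩
  set K := (S : Subgroup G) ⊓ cz z with hK
  let c : ↥(S : Subgroup G) →* ↥(center G) :=
    { toFun := fun t => ⟨(t : G) * z * (t : G)⁻¹ * z⁻¹, D.comm t t.2⟩
      map_one' := Subtype.ext (show (1 : G) * z * (1 : G)⁻¹ * z⁻¹ = 1 by group)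
      map_mul' := fun t t' => Subtype.ext <| by
        show ((t : G) * t') * z * ((t : G) * t')⁻¹ * z⁻¹ =
          ((t : G) * z * (t : G)⁻¹ * z⁻¹) * ((t' : G) * z * (t' : G)⁻¹ * z⁻¹)
        obtain ⟨w, hw, e⟩ := D.conj_eq t'.2
        have hwt : (t : G) * w = w * t := mem_center_iff.1 hw t
        rw [show ((t : G) * t') * z * ((t : G) * t')⁻¹ = (t : G) * ((t' : G) * z * (t' : G)⁻¹) * (t : G)⁻¹
          by group, e, ← mul_assoc (t : G) w z, hwt]
        have hwc : ∀ g : G, g * w = w * g := mem_center_iff.1 hw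
        rw [show w * z * z⁻¹ = w by group, hwc]
        group }
  have hc1 : ∀ t, c t = 1 ↔ (t : G) ∈ cz z := fun t => by
    refine ⟨fun e => mem_cz.2 ?_, fun e => Subtype.ext ?_⟩
    · have e' : (t : G) * z * (t : G)⁻¹ * z⁻¹ = 1 := congrArg Subtype.val e
      exact mul_inv_eq_iff_eq_mul.1 (mul_inv_eq_one.1 e')
    · show (t : G) * z * (t : G)⁻¹ * z⁻¹ = 1
      rw [(mem_cz.1 e).eq, mul_inv_cancel_right, mul_inv_cancel]
  have hcq : ∀ t, c t ^ q = 1 := fun t => Subtype.ext (by
    show ((t : G) * z * (t : G)⁻¹ * z⁻¹) ^ q = 1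
    obtain ⟨w, hw, e⟩ := D.conj_eq t.2
    have h1 : ((t : G) * z * (t : G)⁻¹) ^ q = z ^ q := by
      have e' : (t : G) * z ^ q = z ^ q * t := mem_center_iff.1 D.pow t
      rw [conj_pow, e', mul_inv_cancel_right]
    rw [e, (show Commute w z from (mem_center_iff.1 hw z).symm).mul_pow] at h1
    rw [e, mul_inv_cancel_right]
    exact mul_eq_right.1 h1)
  obtain ⟨x, hx, hxs, hxz⟩ := exists_isQ_of_dvd hs hd
  by_contra hlt
  push Not at hlt
  -- two independent elements
  obtain ⟨u, hu⟩ : ∃ u, c u ≠ 1 := by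
    by_contra hcon
    push Not at hcon
    have : (S : Subgroup G) ≤ K := fun t ht => ⟨ht, (hc1 ⟨t, ht⟩).1 (hcon _)⟩
    rw [relIndex_eq_one.2 this] at hlt
    exact absurd hlt (Nat.not_lt.2 hq.out.one_le)
  obtain ⟨v, hv⟩ : ∃ v, ∀ i : ZMod q, c v ≠ c u ^ i.val := by
    by_contra hcon
    push Not at hcon
    refine hlt.not_ge ?_
    let f : ZMod q → ↥(S : Subgroup G) ⧸ K.subgroupOf (S : Subgroup G) := fun i =>
      QuotientGroup.mk (u ^ i.val)
    have hf : Function.Surjective f := fun T => by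
      induction T using QuotientGroup.induction_on with | _ t => ?_
      obtain ⟨i, hi⟩ := hcon t
      refine ⟨i, QuotientGroup.eq.2 (mem_subgroupOf.2 ⟨((u ^ i.val)⁻¹ * t).2, ?_⟩)⟩
      exact (hc1 _).1 (by rw [map_mul, map_inv, map_pow, hi, inv_mul_cancel])
    exact (Nat.card_le_card_of_surjective f hf).trans_eq (Nat.card_zmod q)
  -- the action on the `s`-part
  set M := h.sPart with hM
  haveI : IsMulCommutative ↥M := ⟨⟨fun a b => Subtype.ext
    (mem_cz.1 (h.le b b.2.1 (Or.inr b.2.2) a.2.1))⟩⟩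
  have hSq : IsPGroup q ↥(S : Subgroup G) := S.isPGroup'
  let T : ↥(S : Subgroup G) → ↥M →* ↥M := fun t =>
    { toFun := fun d => ⟨(t : G) * d * (t : G)⁻¹, D.conj_mem_cz t.2 d.2.1, d.2.2.conj t⟩
      map_one' := Subtype.ext (show (t : G) * 1 * (t : G)⁻¹ = 1 by group)
      map_mul' := fun a b => Subtype.ext
        (show (t : G) * ((a : G) * b) * (t : G)⁻¹ =
          ((t : G) * a * (t : G)⁻¹) * ((t : G) * b * (t : G)⁻¹) by group) }
  have hTmul : ∀ t t' d, T t (T t' d) = T (t * t') d := fun t t' d => Subtype.ext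
    (show (t : G) * ((t' : G) * d * (t' : G)⁻¹) * (t : G)⁻¹ =
      ((t : G) * t') * d * ((t : G) * t')⁻¹ by group)
  have hTeq : ∀ t t', c t = c t' → ∀ d, T t d = T t' d := fun t t' e d => by
    have hmem : ((t'⁻¹ * t : ↥(S : Subgroup G)) : G) ∈ cz z :=
      (hc1 _).1 (by rw [map_mul, map_inv, e, inv_mul_cancel])
    have hcom : Commute ((t'⁻¹ * t : ↥(S : Subgroup G)) : G) d :=
      mem_cz.1 (h.le d d.2.1 (Or.inr d.2.2) hmem)
    have e1 : T (t'⁻¹ * t) d = d := Subtype.ext (by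
      show ((t'⁻¹ * t : ↥(S : Subgroup G)) : G) * d * ((t'⁻¹ * t : ↥(S : Subgroup G)) : G)⁻¹ = d
      rw [hcom.eq, mul_inv_cancel_right])
    calc T t d = T (t' * (t'⁻¹ * t)) d := by rw [mul_inv_cancel_left]
      _ = T t' (T (t'⁻¹ * t) d) := (hTmul _ _ _).symm
      _ = T t' d := by rw [e1]
  have hfix : ∀ t, c t ≠ 1 → ∀ d : ↥M, T t d = d → (d : G) ∈ center G := fun t ht d e => by
    by_contra hdz
    have e' : (t : G) * d * (t : G)⁻¹ = d := congrArg Subtype.val e
    exact ht ((hc1 t).2 (h.mem_of_commute hSq inf_le_left inf_le_right D.not_dvd_relIndex d.2.1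
      (Or.inr d.2.2) hdz t.2 (mul_inv_eq_iff_eq_mul.1 e')).2)
  let x' : ↥M := ⟨x, hx, hxs⟩
  let P : ZMod q → ZMod q → ↥(S : Subgroup G) := fun i b => v ^ i.val * u ^ b.val
  have hP : ∀ i b, c (P i b) = c v ^ i.val * c u ^ b.val := fun i b => by
    simp only [P, map_mul, map_pow]
  have key := pow_mem_of_plane (N := (center G).subgroupOf M) (fun i b => T (P i b) x') ?_ ?_
  · have h0 : T (P 0 0) x' = x' := Subtype.ext
      (show ((P 0 0 : ↥(S : Subgroup G)) : G) * x * ((P 0 0 : ↥(S : Subgroup G)) : G)⁻¹ = x by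
        simp [P])
    rw [h0] at key
    exact hxz (mem_center_of_isQ_of_pow hs hxs
      (fun e => hqs (((Nat.prime_dvd_prime_iff_eq hs hq.out).1 e).symm))
      (show x ^ q ∈ center G from by simpa [x', mem_subgroupOf] using key))
  · intro j
    refine mem_subgroupOf.2 (hfix (v * u ^ j.val) ?_ _ ?_)
    · intro e
      refine hv (-j) ?_
      rw [map_mul, map_pow] at e
      have e2 := pow_val_add (hcq u) (-j) j
      rw [neg_add_cancel, ZMod.val_zero, pow_zero] at e2
      rw [eq_inv_of_mul_eq_one_left e, eq_inv_of_mul_eq_one_left e2.symm]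
    · rw [map_prod]
      refine Fintype.prod_equiv (Equiv.addLeft 1) _ _ fun i => ?_
      rw [hTmul]
      refine hTeq _ _ ?_ _
      simp only [Equiv.coe_addLeft, map_mul, map_pow, hP]
      rw [show ((1 : ZMod q) + i) * j = j + i * j by ring, pow_val_add (hcq v), pow_val_add (hcq u),
        ZMod.val_one, pow_one, mul_mul_mul_comm]
  · intro i
    refine mem_subgroupOf.2 (hfix u hu _ ?_)
    rw [map_prod]
    refine Fintype.prod_equiv (Equiv.addLeft 1) _ _ fun b => ?_
    rw [hTmul]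
    refine hTeq _ _ ?_ _
    simp only [Equiv.coe_addLeft, map_mul, hP]
    rw [pow_val_add (hcq u), ZMod.val_one, pow_one]
    exact mul_left_comm _ _ _

/-- An element of `S` whose centraliser has a large `q`-part commutes with `z`. -/
theorem mem_cz_of_big (D : CentralData q S z) {s : ℕ} (hs : s.Prime) (hqs : q ≠ s)
    (h : Tight q s z) (hd : s ∣ mz z) {w : G} (hw : w ∈ (S : Subgroup G))
    (hwi : ¬ q ∣ ((S : Subgroup G) ⊓ cz w).relIndex (cz w)) (hbig : q ^ 2 ∣ mz w) :
    w ∈ cz z := by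
  set K := (S : Subgroup G) ⊓ cz z with hK
  set A := (S : Subgroup G) ⊓ cz w with hA
  by_contra hwK
  have hinf : ∀ d ∈ K, d ∈ cz w → d ∈ center G := fun d hd hdw => by
    by_contra hdz
    exact hwK (h.mem_of_commute S.isPGroup' inf_le_left inf_le_right D.not_dvd_relIndex hd.2
      (Or.inl (IsQ.of_mem S.isPGroup' hd.1)) hdz hw (mem_cz.1 hdw).symm).2
  have hKA : K ⊓ A = center G ⊓ A := by
    refine le_antisymm (fun d hd => ⟨hinf d hd.1 hd.2.2, hd.2⟩) fun d hd => ⟨⟨hd.2.1, ?_⟩, hd.2⟩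
    exact center_le_cz z hd.1
  have h1 : (center G).relIndex A ≤ q := by
    rw [← inf_relIndex_right, ← hKA, inf_relIndex_right]
    refine le_trans ?_ (D.relIndex_le hs hqs h hd)
    exact relIndex_le_of_le_right inf_le_left (index_ne_zero_of_finite (H := K.subgroupOf (S : Subgroup G)))
  have h2 : q ^ 2 ∣ (center G).relIndex A := by
    have hle : A ⊔ center G ≤ cz w := sup_le inf_le_right (center_le_cz w)
    have e := relIndex_mul_relIndex _ _ _ (le_sup_right : center G ≤ A ⊔ center G) hle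
    rw [relIndex_sup_right] at e
    refine (Nat.Coprime.pow_left 2 ((Nat.Prime.coprime_iff_not_dvd Fact.out).2 fun hq' => hwi
      (hq'.trans ⟨A.relIndex (A ⊔ center G),
        (relIndex_mul_relIndex A (A ⊔ center G) (cz w) le_sup_left hle).symm.trans
          (mul_comm _ _)⟩))).dvd_of_dvd_mul_right (hbig.trans (dvd_of_eq e.symm))
  have h3 : q ^ 2 ≤ (center G).relIndex A := Nat.le_of_dvd
    (Nat.pos_of_ne_zero (index_ne_zero_of_finite (H := (center G).subgroupOf A))) h2
  nlinarith [hq.out.two_le]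

end CentralData

/-- A `q`-element has a conjugate in a given Sylow subgroup containing a Sylow subgroup of its centraliser. -/
theorem exists_conj_sylow {q : ℕ} [Fact q.Prime] (S : Sylow q G) {w : G} (hw : IsQ q w) :
    ∃ g : G, g * w * g⁻¹ ∈ (S : Subgroup G) ∧
      ¬ q ∣ ((S : Subgroup G) ⊓ cz (g * w * g⁻¹)).relIndex (cz (g * w * g⁻¹)) := by
  obtain ⟨A, hA, hAp, hAi⟩ := exists_sylow_in q (cz w)
  have hwA : w ∈ A := mem_sylow_in hA hAp hAi hw (mem_cz.2 (Commute.refl w)) le_rfl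
  obtain ⟨T, hT⟩ := hAp.exists_le_sylow
  obtain ⟨g, hg⟩ := MulAction.exists_smul_eq G T S
  set f := (MulAut.conj g).toMonoidHom
  have hTS : (T : Subgroup G).map f = (S : Subgroup G) := by rw [← hg]; rfl
  have hcz : cz (g * w * g⁻¹) = (cz w).map f := by
    ext y
    refine ⟨fun hy => ⟨g⁻¹ * y * g, ?_, by simp [f, mul_assoc]⟩, ?_⟩
    · have := commute_conj g⁻¹ (mem_cz.1 hy)
      simpa [mul_assoc] using mem_cz.2 this
    · rintro ⟨x, hx, rfl⟩
      exact mem_cz.2 (commute_conj g (mem_cz.1 hx))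
  refine ⟨g, hTS ▸ ⟨w, hT hwA, rfl⟩, fun h => hAi ?_⟩
  rw [← relIndex_map_map_of_injective A (cz w) (f := f) (MulAut.conj g).injective, ← hcz]
  refine h.trans (relIndex_dvd_of_le_left _ (le_inf ?_ ?_))
  · exact hTS ▸ map_mono hT
  · exact hcz ▸ map_mono hA

/-- Large centralisers of `q`-elements are conjugate. -/
theorem eq_conj_of_big {q : ℕ} [hq : Fact q.Prime] {S : Sylow q G} {z : G} (D : CentralData q S z)
    {s : ℕ} (hs : s.Prime) (hqs : q ≠ s) (h : Tight q s z) (hd : s ∣ mz z)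
    (hle : ∀ w : G, IsQ q w → w ∉ center G → ∀ d ∈ cz w, IsQ q d → cz w ≤ cz d)
    {w : G} (hw : IsQ q w) (hwz : w ∉ center G) (hbig : q ^ 2 ∣ mz w ∨ ¬ q ∣ sz w) :
    ∃ g : G, cz (g * w * g⁻¹) = cz z := by
  obtain ⟨g, hg, hgi⟩ := exists_conj_sylow S hw
  have hgz : g * w * g⁻¹ ∉ center G := fun h' => hwz (Hall.TwoSizes.mem_center_of_conj h')
  have key : g * w * g⁻¹ ∈ cz z := by
    rcases hbig with hb | hb
    · refine D.mem_cz_of_big hs hqs h hd hg hgi ?_
      rwa [mz_eq_of_sz_eq (sz_conj g w)]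
    · have e := relIndex_mul_index
        (inf_le_left : (S : Subgroup G) ⊓ cz (g * w * g⁻¹) ≤ (S : Subgroup G))
      have h1 : ¬ q ∣ ((S : Subgroup G) ⊓ cz (g * w * g⁻¹)).relIndex (S : Subgroup G) := fun h' => by
        have h2 := h'.trans ⟨_, e.symm⟩
        rw [← relIndex_mul_index
          (inf_le_right : (S : Subgroup G) ⊓ cz (g * w * g⁻¹) ≤ cz (g * w * g⁻¹))] at h2
        exact (hq.out.dvd_mul.1 h2).elim hgi (by rw [← sz, sz_conj]; exact hb)
      have h3 := relIndex_eq_one.1 (relIndex_eq_one_of_ndvd S.isPGroup' h1) D.mem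
      exact mem_cz.2 (mem_cz.1 h3.2).symm
  have hgq : IsQ q (g * w * g⁻¹) := hw.conj g
  exact ⟨g, le_antisymm (hle _ hgq hgz z (mem_cz.2 (mem_cz.1 key).symm) D.isQ)
    (hle z D.isQ D.nc _ key hgq)⟩

end Cfsg.Agent.H86.ThreeSizes
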