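import Cfsg.Agent.H86.ClassSizes.TwoRegular
import Cfsg.Agent.H75.Cover
import Cfsg.Agent.H41.Basic
import Cfsg.Agent.S0144

/-!
# Centraliser orders modulo the centre

For an element `x`, `mz x` is the index of the centre in its centraliser; it determines the class size.
-/

set_option autoImplicit false
set_option linter.style.haveILetI false
set_option linter.unusedSectionVars false

namespace Cfsg.Agent.H86.ThreeSizes

open Subgroup
open Cfsg.Agent.Hall.TwoSizes (IsQ)
open Cfsg.Agent.H86.ClassSizes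

universe u

variable {G : Type u} [Group G] [Finite G]

/-- The index of the centre in the centraliser. -/
noncomputable abbrev mz (x : G) : ℕ := (center G).relIndex (cz x)

theorem center_le_cz (x : G) : center G ≤ cz x := fun _ h =>
  mem_cz.2 (mem_center_iff.1 h x).symm

theorem mz_mul_sz (x : G) : mz x * sz x = (center G).index := relIndex_mul_index (center_le_cz x)

theorem mz_eq_of_sz_eq {x y : G} (h : sz x = sz y) : mz x = mz y := by
  have h1 := mz_mul_sz x
  rw [h, ← mz_mul_sz y] at h1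
  exact Nat.eq_of_mul_eq_mul_right (Nat.pos_of_ne_zero index_ne_zero_of_finite) h1

theorem mem_center_of_isQ_of_pow {q n : ℕ} (hq : q.Prime) {d : G} (hd : IsQ q d)
    (hn : ¬ q ∣ n) (h : d ^ n ∈ center G) : d ∈ center G := by
  obtain ⟨k, hk⟩ := hd
  have hco : Int.gcd (n : ℤ) ((q ^ k : ℕ) : ℤ) = 1 := by
    rw [Int.gcd_natCast_natCast]
    exact ((hq.coprime_iff_not_dvd.2 hn).symm.pow_right k)
  have h1 := Int.gcd_eq_gcd_ab (n : ℤ) ((q ^ k : ℕ) : ℤ)
  rw [hco] at h1
  have e : d = (d ^ n) ^ (Int.gcdA (n : ℤ) ((q ^ k : ℕ) : ℤ)) := by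
    conv_lhs => rw [← zpow_one d, ← Nat.cast_one, h1, zpow_add, zpow_mul, zpow_mul, zpow_natCast,
      zpow_natCast, hk, one_zpow, mul_one]
  rw [e]
  exact zpow_mem h _

theorem dvd_mz {q : ℕ} (hq : q.Prime) {x d : G} (hd : IsQ q d) (hdx : d ∈ cz x)
    (hdz : d ∉ center G) : q ∣ mz x := by
  by_contra hn
  refine hdz (mem_center_of_isQ_of_pow hq hd hn ?_)
  haveI : ((center G).subgroupOf (cz x)).Normal := inferInstance
  simpa [mz, relIndex, mem_subgroupOf] using
    Subgroup.pow_index_mem ((center G).subgroupOf (cz x)) (⟨d, hdx⟩ : ↥(cz x))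

/-- Every subgroup has a Sylow subgroup. -/
theorem exists_sylow_in (q : ℕ) [Fact q.Prime] (H : Subgroup G) :
    ∃ A : Subgroup G, A ≤ H ∧ IsPGroup q ↥A ∧ ¬ q ∣ A.relIndex H := by
  obtain ⟨P⟩ := (inferInstance : Nonempty (Sylow q ↥H))
  refine ⟨(P : Subgroup ↥H).map H.subtype, map_subtype_le _,
    P.isPGroup'.map H.subtype, ?_⟩
  rw [relIndex, subgroupOf, comap_map_eq_self_of_injective H.subtype_injective]
  exact P.not_dvd_index

theorem exists_isQ_of_dvd {q : ℕ} (hq : q.Prime) {x : G} (h : q ∣ mz x) :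
    ∃ d ∈ cz x, IsQ q d ∧ d ∉ center G := by
  haveI : Fact q.Prime := ⟨hq⟩
  obtain ⟨A, hA, hAp, hAi⟩ := exists_sylow_in q (cz x)
  by_contra hcon
  push Not at hcon
  exact hAi (h.trans (relIndex_dvd_of_le_left _ fun a ha => hcon a (hA ha) (IsQ.of_mem hAp ha)))

theorem exists_isQ_of_dvd_index {q : ℕ} (hq : q.Prime) (h : q ∣ (center G).index) :
    ∃ d : G, IsQ q d ∧ d ∉ center G := by
  haveI : Fact q.Prime := ⟨hq⟩
  obtain ⟨P⟩ := (inferInstance : Nonempty (Sylow q G))
  by_contra hcon
  push Not at hcon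
  exact P.not_dvd_index (h.trans (index_dvd_of_le fun a ha => hcon a (IsQ.of_mem P.isPGroup' ha)))

theorem dvd_index_of_isQ {q : ℕ} (hq : q.Prime) {x : G} (hx : IsQ q x) (hz : x ∉ center G) :
    q ∣ (center G).index :=
  (dvd_mz hq hx (mem_cz.2 (Commute.refl x)) hz).trans ⟨sz x, (mz_mul_sz x).symm⟩

/-- An element outside a subgroup has a power of prime power order outside it. -/
theorem exists_isQ_power {N : Subgroup G} {x : G} (hx : x ∉ N) :
    ∃ q : ℕ, q.Prime ∧ ∃ w ∈ zpowers x, IsQ q w ∧ w ∉ N :=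
  exists_isQ_not_mem fun h => hx (h (mem_zpowers x))

/-- In a nonsolvable group the central quotient has three prime divisors. -/
theorem exists_third_prime (hns : ¬ Group.IsSolvable G) {p q : ℕ} (hp : p.Prime) (hq : q.Prime) :
    ∃ t : ℕ, t.Prime ∧ t ∣ (center G).index ∧ t ≠ p ∧ t ≠ q := by
  by_contra hcon
  push Not at hcon
  refine hns ?_
  obtain ⟨i, a, ha, hea⟩ := Nat.exists_eq_pow_mul_and_not_dvd
    (index_ne_zero_of_finite (H := center G)) p hp.ne_one
  obtain ⟨j, b, hb, heb⟩ := Nat.exists_eq_pow_mul_and_not_dvd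
    (show a ≠ 0 from fun e => ha (e ▸ dvd_zero p)) q hq.ne_one
  have hb1 : b = 1 := by
    by_contra hne
    obtain ⟨t, ht, htb⟩ := Nat.exists_prime_and_dvd hne
    have hta : t ∣ a := heb ▸ htb.trans (dvd_mul_left b _)
    have htq := hcon t ht (hea ▸ hta.trans (dvd_mul_left a _)) fun e => ha (e ▸ hta)
    exact hb (htq ▸ htb)
  have hcard : Nat.card (G ⧸ center G) = p ^ i * q ^ j := by
    rw [← index_eq_card, hea, heb, hb1, mul_one]
  have hZs : Group.IsSolvable ↥(center G) := Group.isSolvable_of_comm fun a b =>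
    Subtype.ext (mem_center_iff.1 b.2 a)
  exact (Group.isSolvable_iff_subgroup_quotient (center G)).2
    ⟨hZs, S0144.result p q i j hp hq hcard⟩

/-- A group is solvable if every element of prime power order lies in the solvable radical. -/
theorem isSolvable_of_forall_mem_rad (h : ∀ q : ℕ, q.Prime → ∀ w : G, IsQ q w → w ∈ Rad G) :
    Group.IsSolvable G := by
  haveI := isSolvable_rad (G := G)
  have htop : Rad G = ⊤ := top_le_iff.1 (le_of_forall_isQ fun q hq w _ hw => h q hq w hw)
  haveI : Subsingleton (G ⧸ Rad G) := QuotientGroup.subsingleton_iff.2 htop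
  exact (Group.isSolvable_iff_subgroup_quotient (Rad G)).2 ⟨inferInstance, inferInstance⟩

theorem relIndex_cz_mul_sz {C : Subgroup G} {v w : G} (h : cz w = cz v ⊓ C) :
    (cz v).relIndex C * C.index = sz w := by
  rw [sz, h, ← inf_relIndex_right, relIndex_mul_index inf_le_right]

end Cfsg.Agent.H86.ThreeSizes
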