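import Cfsg.Agent.H86.ThreeSizes.Anchor

/-!
# Two non-trivial class sizes, one dividing the other

In a nonsolvable group of this kind no centraliser of a non-central element properly contains another one.
-/

set_option autoImplicit false
set_option linter.style.haveILetI false
set_option linter.unusedSectionVars false

namespace Cfsg.Agent.H86.ThreeSizes

open Subgroup
open Cfsg.Agent.Hall.TwoSizes (IsQ)
open Cfsg.Agent.H86.ClassSizes

universe u

variable {G : Type u} [Group G] [Finite G]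

/-- The non-trivial class sizes are `n₂ < n₁`. -/
structure Sizes (G : Type u) [Group G] (n₁ n₂ : ℕ) : Prop where
  lt : n₂ < n₁
  one_lt : 1 < n₂
  sz_eq : ∀ x : G, sz x = 1 ∨ sz x = n₂ ∨ sz x = n₁

namespace Sizes

variable {n₁ n₂ k : ℕ}

theorem cases (h : Sizes G n₁ n₂) {x : G} (hx : x ∉ center G) : sz x = n₂ ∨ sz x = n₁ :=
  (h.sz_eq x).resolve_left fun e => hx (sz_eq_one_iff.1 e)

theorem cz_eq_of_small (h : Sizes G n₁ n₂) {x y : G} (hy : y ∉ center G) (hle : cz x ≤ cz y)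
    (hs : sz x = n₂) : cz x = cz y := by
  refine cz_eq_of_le hle ?_
  rcases h.cases hy with e | e
  · rw [hs, e]
  · have hd := sz_dvd_of_le hle
    rw [e, hs] at hd
    exact absurd (Nat.le_of_dvd (Nat.zero_lt_of_lt h.one_lt) hd) (Nat.not_le.2 h.lt)

theorem relIndex_cases (h : Sizes G n₁ n₂) (hk : n₁ = n₂ * k) {C : Subgroup G} {y : G}
    (hy : y ∉ center G) {i : ℕ} (hC : C.index = i) (hle : C ≤ cz y) (hi : i = n₂ ∨ i = n₁) :
    C.relIndex (cz y) = 1 ∨ C.relIndex (cz y) = k := by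
  have e := relIndex_mul_index hle
  have hp := Nat.zero_lt_of_lt h.one_lt
  rcases h.cases hy with hs | hs <;> rcases hi with rfl | rfl <;> rw [← sz] at e <;>
    rw [hs, hC] at e
  · exact Or.inl (Nat.eq_of_mul_eq_mul_right hp (by rwa [one_mul]))
  · exact Or.inr (Nat.eq_of_mul_eq_mul_right hp (by rw [e, hk, mul_comm]))
  · exfalso
    have := h.lt
    rcases Nat.eq_zero_or_pos (C.relIndex (cz y)) with h0 | h0
    · rw [h0, zero_mul] at e
      omega
    · nlinarith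
  · exact Or.inl (Nat.eq_of_mul_eq_mul_right (hp.trans h.lt) (by rwa [one_mul]))

theorem one_lt_k (h : Sizes G n₁ n₂) (hk : n₁ = n₂ * k) : 1 < k := by
  by_contra hc
  have := h.lt
  rcases Nat.le_one_iff_eq_zero_or_eq_one.1 (not_lt.1 hc) with rfl | rfl <;> simp at hk <;> omega

/-- Within the centraliser of an element of the small class size there are two sizes. -/
theorem relIndex_centralizer (h : Sizes G n₁ n₂) (hk : n₁ = n₂ * k) {w v : G}
    (hw : w ∉ center G) (hs : sz w = n₂) (hc : Commute v w)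
    (hco : (orderOf v).Coprime (orderOf w)) :
    (cz v).relIndex (cz w) = 1 ∨ (cz v).relIndex (cz w) = k := by
  have hvw : v * w ∉ center G := fun hz => hw <| by
    obtain ⟨i, hi⟩ := mem_zpowers_iff.1 (mem_zpowers_mul hc.symm hco.symm)
    rw [← hi, ← hc.eq]
    exact zpow_mem hz i
  have e := relIndex_cz_mul_sz (cz_mul hc hco)
  rw [← sz, hs] at e
  have hp := Nat.zero_lt_of_lt h.one_lt
  rcases h.cases hvw with hv | hv <;> rw [hv] at e
  · exact Or.inl (Nat.eq_of_mul_eq_mul_right hp (by rwa [one_mul]))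
  · exact Or.inr (Nat.eq_of_mul_eq_mul_right hp (by rw [e, hk, mul_comm]))

theorem centralizer_cases (h : Sizes G n₁ n₂) (hk : n₁ = n₂ * k) {q : ℕ} (hq : q.Prime) {w : G}
    (hwq : IsQ q w) (hw : w ∉ center G) (hs : sz w = n₂) :
    (∀ t : ℕ, t.Prime → t ≠ q → ∀ d ∈ cz w, IsQ t d → cz w ≤ cz d) ∨
    (∃ e, k = q ^ e) ∨
    (∃ l, l.Prime ∧ (∀ t : ℕ, t.Prime → t ∣ k → t = q ∨ t = l) ∧
      ∀ t : ℕ, t.Prime → t ≠ q → t ≠ l → ∀ d ∈ cz w, IsQ t d → cz w ≤ cz d) := by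
  set C := cz w with hC
  have hsub : ∀ v : ↥C, cz v = (cz (v : G)).subgroupOf C := fun v => by
    ext u
    rw [mem_subgroupOf, mem_cz, mem_cz]
    exact ⟨fun e => congrArg Subtype.val e.eq, fun e => Subtype.ext e.eq⟩
  have hreg : ∀ v : ↥C, (orderOf v).Coprime q → sz v = 1 ∨ sz v = k := fun v hv => by
    rw [sz, hsub, ← relIndex]
    refine h.relIndex_centralizer hk hw hs (mem_cz.1 v.2) ?_
    obtain ⟨j, hj⟩ := hwq.orderOf_eq hq
    rw [hj, orderOf_coe]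
    exact hv.pow_right j
  have hcen : ∀ d (hd : d ∈ C), (⟨d, hd⟩ : ↥C) ∈ center ↥C → C ≤ cz d := fun d hd hz u hu =>
    mem_cz.2 (congrArg Subtype.val (mem_center_iff.1 hz ⟨u, hu⟩))
  have hQ : ∀ t d (hd : d ∈ C), IsQ t d → IsQ t (⟨d, hd⟩ : ↥C) := fun t d hd ⟨i, hi⟩ =>
    ⟨i, Subtype.ext (by simpa using hi)⟩
  rcases two_regular_cases hq hreg with hc | ⟨-, e, he⟩ | ⟨l, N, i, j, hl, -, -, hkd, -, hc⟩
  · refine Or.inl fun t ht htq d hd hdt => hcen d hd (hc _ ?_)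
    exact (hQ t d hd hdt).coprime_prime ht hq htq
  · exact Or.inr (Or.inl ⟨e, he⟩)
  · refine Or.inr (Or.inr ⟨l, hl, fun t ht htk => ?_, fun t ht htq htl d hd hdt =>
      hcen d hd (hc t ht htq htl _ (hQ t d hd hdt))⟩)
    rcases ht.dvd_mul.1 (htk.trans hkd) with h1 | h1
    · exact Or.inl ((Nat.prime_dvd_prime_iff_eq ht hq).1 (ht.dvd_of_dvd_pow h1))
    · exact Or.inr ((Nat.prime_dvd_prime_iff_eq ht hl).1 (ht.dvd_of_dvd_pow h1))

/-- For two primes not dividing `k`, centralisers of elements of one control the elements of the other. -/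
theorem le_cz_of_ndvd (h : Sizes G n₁ n₂) (hk : n₁ = n₂ * k) {q r : ℕ} (hq : q.Prime)
    (hr : r.Prime) (hqr : q ≠ r) (hqk : ¬ q ∣ k) (hrk : ¬ r ∣ k) {y d : G} (hy : IsQ r y)
    (hyz : y ∉ center G) (hd : IsQ q d) (hdy : d ∈ cz y) : cz y ≤ cz d := by
  rcases h.cases hyz with hs | hs
  · rcases h.centralizer_cases hk hr hy hyz hs with hc | ⟨e, he⟩ | ⟨l, hl, hkp, hc⟩
    · exact hc q hq hqr d hdy hd
    · exfalso
      have h1 := h.one_lt_k hk
      rcases Nat.eq_zero_or_pos e with rfl | h0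
      · simp at he; omega
      · exact hrk (he ▸ dvd_pow_self r h0.ne')
    · refine hc q hq hqr (fun e => ?_) d hdy hd
      have h1 := h.one_lt_k hk
      obtain ⟨t, ht, htk⟩ := Nat.exists_prime_and_dvd h1.ne'
      rcases hkp t ht htk with rfl | rfl
      · exact hrk htk
      · exact hqk (e ▸ htk)
  · have hc : Commute d y := mem_cz.1 hdy
    have hco := orderOf_coprime_of_isQ hq hr hqr hd hy
    have hle := cz_mul_le_right hc hco
    have hdy' : d * y ∉ center G := fun hz => by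
      have h1 := sz_dvd_of_le hle
      rw [sz_eq_one_iff.2 hz, hs] at h1
      have := Nat.le_of_dvd Nat.one_pos h1
      have := h.lt; have := h.one_lt; omega
    have e : cz (d * y) = cz y := by
      refine cz_eq_of_le hle ?_
      rcases h.cases hdy' with e | e
      · exfalso
        have h1 := sz_dvd_of_le hle
        rw [e, hs] at h1
        exact absurd (Nat.le_of_dvd (Nat.zero_lt_of_lt h.one_lt) h1) (Nat.not_le.2 h.lt)
      · rw [e, hs]
    rw [← e]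
    exact cz_mul_le_left hc hco

theorem pow_dvd_mz (h : Sizes G n₁ n₂) (hk : n₁ = n₂ * k) {x y : G} (hx : x ∉ center G)
    (hy : y ∉ center G) {q i : ℕ} (hq : q.Prime) (hqk : ¬ q ∣ k) (hd : q ^ i ∣ mz x) :
    q ^ i ∣ mz y := by
  have e := (mz_mul_sz x).trans (mz_mul_sz y).symm
  have hp := Nat.zero_lt_of_lt h.one_lt
  have hco : (q ^ i).Coprime k := (hq.coprime_iff_not_dvd.2 hqk).pow_left i
  rcases h.cases hx with hsx | hsx <;> rcases h.cases hy with hsy | hsy <;> rw [hsx, hsy] at e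
  · rwa [← Nat.eq_of_mul_eq_mul_right hp e]
  · rw [hk, ← mul_assoc, mul_right_comm] at e
    rw [Nat.eq_of_mul_eq_mul_right hp e] at hd
    exact hco.dvd_of_dvd_mul_right hd
  · rw [hk, ← mul_assoc, mul_right_comm] at e
    rw [← Nat.eq_of_mul_eq_mul_right hp e]
    exact hd.trans (dvd_mul_right _ _)
  · rwa [← Nat.eq_of_mul_eq_mul_right (hp.trans h.lt) e]

theorem mz_dvd (h : Sizes G n₁ n₂) (hk : n₁ = n₂ * k) {x y : G} (hx : x ∉ center G)
    (hs : sz y = n₂) : mz x ∣ mz y := by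
  have e := (mz_mul_sz x).trans (mz_mul_sz y).symm
  have hp := Nat.zero_lt_of_lt h.one_lt
  rcases h.cases hx with hsx | hsx <;> rw [hsx, hs] at e
  · rw [← Nat.eq_of_mul_eq_mul_right hp e]
  · rw [hk, ← mul_assoc, mul_right_comm] at e
    rw [← Nat.eq_of_mul_eq_mul_right hp e]
    exact dvd_mul_right _ _

theorem dvd_mz_of_ndvd (h : Sizes G n₁ n₂) (hk : n₁ = n₂ * k) {q : ℕ} (hq : q.Prime)
    (hqg : q ∣ (center G).index) (hqk : ¬ q ∣ k) {x : G} (hx : x ∉ center G) : q ∣ mz x := by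
  obtain ⟨d, hd, hdz⟩ := exists_isQ_of_dvd_index hq hqg
  simpa using h.pow_dvd_mz hk (i := 1) hdz hx hq hqk
    (by simpa using dvd_mz hq hd (mem_cz.2 (Commute.refl d)) hdz)

theorem tight_of_ndvd (h : Sizes G n₁ n₂) (hk : n₁ = n₂ * k) {q r : ℕ} (hq : q.Prime)
    (hr : r.Prime) (hqr : q ≠ r) (hrg : r ∣ (center G).index) (hqk : ¬ q ∣ k) (hrk : ¬ r ∣ k)
    {z : G} (hz : IsQ q z) (hzz : z ∉ center G) : Tight q r z := by
  have hle : ∀ d ∈ cz z, IsQ q d ∨ IsQ r d → cz z ≤ cz d := by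
    intro d hd hdq
    rcases hdq with hdq | hdr
    · obtain ⟨d₀, hd₀, hd₀r, hd₀z⟩ := exists_isQ_of_dvd hr (h.dvd_mz_of_ndvd hk hr hrg hrk hzz)
      have h1 := h.le_cz_of_ndvd hk hr hq hqr.symm hrk hqk hz hzz hd₀r hd₀
      exact h1.trans (h.le_cz_of_ndvd hk hq hr hqr hqk hrk hd₀r hd₀z hdq (h1 hd))
    · exact h.le_cz_of_ndvd hk hr hq hqr.symm hrk hqk hz hzz hdr hd
  refine ⟨hle, fun d hd hdq hdz hdvd => ?_⟩
  rcases h.relIndex_cases hk hdz rfl (hle d hd hdq) (h.cases hzz) with e | e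
  · exact hq.not_dvd_one (e ▸ hdvd)
  · exact hqk (e ▸ hdvd)

theorem dvd_sz_of_ndvd (h : Sizes G n₁ n₂) (hk : n₁ = n₂ * k) {q : ℕ} (hq : q.Prime)
    (hqg : q ∣ (center G).index) (hqk : ¬ q ∣ k) {x : G} (hx : x ∉ center G) : q ∣ sz x := by
  haveI : Fact q.Prime := ⟨hq⟩
  by_contra hn
  have hn2 : ¬ q ∣ n₂ := fun hd => hn (by
    rcases h.cases hx with e | e <;> rw [e]
    · exact hd
    · exact hk ▸ hd.mul_right k)
  obtain ⟨w, hw, hwz⟩ := exists_isQ_of_dvd_index hq hqg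
  have hall : ∀ g : G, ¬ q ∣ sz g := fun g => by
    rcases h.sz_eq g with e | e | e <;> rw [e]
    · exact hq.not_dvd_one
    · exact hn2
    · exact hk ▸ fun hd => (hq.dvd_mul.1 hd).elim hn2 hqk
  have htop := H75.eq_top_of_conj_cover (cz w) fun g => by
    obtain ⟨b, hb⟩ := exists_commute_conj (hall g) hw
    refine ⟨b⁻¹, mem_cz.2 ?_⟩
    have h1 := commute_conj b⁻¹ hb
    rw [show b⁻¹ * (b * w * b⁻¹) * b⁻¹⁻¹ = w by group] at h1
    exact h1.symm
  exact hwz (sz_eq_one_iff.1 (index_eq_one.2 htop))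

theorem false_of_two_primes (h : Sizes G n₁ n₂) (hk : n₁ = n₂ * k) {q r : ℕ} (hq : q.Prime)
    (hr : r.Prime) (hqr : q ≠ r) (hqg : q ∣ (center G).index) (hrg : r ∣ (center G).index)
    (hqk : ¬ q ∣ k) (hrk : ¬ r ∣ k) : False := by
  have hsmall : ∀ {q r : ℕ}, q.Prime → r.Prime → q ≠ r → q ∣ (center G).index →
      r ∣ (center G).index → ¬ q ∣ k → ¬ r ∣ k → ∀ x : G, x ∉ center G → ¬ q ^ 2 ∣ mz x := by
    intro q r hq hr hqr hqg hrg hqk hrk x hx hbig
    haveI : Fact q.Prime := ⟨hq⟩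
    obtain ⟨S, z₀, D⟩ := exists_centralData hqg
    have htop := H75.eq_top_of_conj_cover (cz z₀) fun g => by
      by_cases hg : g ∈ center G
      · exact ⟨1, by simpa using center_le_cz z₀ hg⟩
      obtain ⟨w, hwg, hw, hwz⟩ := exists_isQ_of_dvd hq (h.dvd_mz_of_ndvd hk hq hqg hqk hg)
      obtain ⟨b, hb⟩ := eq_conj_of_big D hr hqr (h.tight_of_ndvd hk hq hr hqr hrg hqk hrk D.isQ D.nc)
        (h.dvd_mz_of_ndvd hk hr hrg hrk D.nc)
        (fun v hv hvz d hd hdq =>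
          (h.tight_of_ndvd hk hq hr hqr hrg hqk hrk hv hvz).le d hd (Or.inl hdq))
        hw hwz (Or.inl (h.pow_dvd_mz hk hx hwz hq hqk hbig))
      exact ⟨b, hb ▸ mem_cz.2 (commute_conj b (mem_cz.1 hwg).symm)⟩
    exact D.nc (sz_eq_one_iff.1 (index_eq_one.2 htop))
  have hlt : ∀ {q r : ℕ}, q.Prime → r.Prime → q ≠ r → q ∣ (center G).index →
      r ∣ (center G).index → ¬ q ∣ k → ¬ r ∣ k → q < r := by
    intro q r hq hr hqr hqg hrg hqk hrk
    haveI : Fact q.Prime := ⟨hq⟩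
    haveI : Fact r.Prime := ⟨hr⟩
    obtain ⟨z, hz, hzz⟩ := exists_isQ_of_dvd_index hq hqg
    have T := h.tight_of_ndvd hk hq hr hqr hrg hqk hrk hz hzz
    obtain ⟨n, -, hn, hnz, hfix⟩ := T.exists_normalizing hz (h.dvd_sz_of_ndvd hk hq hqg hqk hzz)
    exact T.lt_of_normalizing hqr hn hnz hfix (h.dvd_mz_of_ndvd hk hr hrg hrk hzz)
      (hsmall hr hq hqr.symm hrg hqg hrk hqk z hzz)
  exact lt_asymm (hlt hq hr hqr hqg hrg hqk hrk) (hlt hr hq hqr.symm hrg hqg hrk hqk)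

theorem exists_two_dvd (h : Sizes G n₁ n₂) (hk : n₁ = n₂ * k) (hns : ¬ Group.IsSolvable G) :
    ∃ p q : ℕ, p.Prime ∧ q.Prime ∧ p ≠ q ∧ p ∣ k ∧ q ∣ k := by
  obtain ⟨p, hp, hpk⟩ := Nat.exists_prime_and_dvd (h.one_lt_k hk).ne'
  obtain ⟨t, ht, htg, htp, -⟩ := exists_third_prime hns hp hp
  obtain ⟨u, hu, hug, hup, hut⟩ := exists_third_prime hns hp ht
  by_cases htk : t ∣ k
  · exact ⟨p, t, hp, ht, htp.symm, hpk, htk⟩
  by_cases huk : u ∣ k
  · exact ⟨p, u, hp, hu, hup.symm, hpk, huk⟩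
  exact (h.false_of_two_primes hk ht hu hut.symm htg hug htk huk).elim

theorem le_cz_of_regular_central (h : Sizes G n₁ n₂) (hk : n₁ = n₂ * k)
    (hns : ¬ Group.IsSolvable G) {q : ℕ} (hq : q.Prime) {w : G} (hw : w ∉ center G)
    (hs : sz w = n₂) (hc : ∀ t : ℕ, t.Prime → t ≠ q → ∀ d ∈ cz w, IsQ t d → cz w ≤ cz d)
    {v : G} (hv : v ∈ cz w) (hvq : IsQ q v) : cz w ≤ cz v := by
  obtain ⟨t, ht, htg, htq, -⟩ := exists_third_prime hns hq hq
  obtain ⟨a', ha', ha'z⟩ := exists_isQ_of_dvd_index ht htg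
  obtain ⟨a, ha, hat, haz⟩ := exists_isQ_of_dvd ht
    ((dvd_mz ht ha' (mem_cz.2 (Commute.refl a')) ha'z).trans (h.mz_dvd hk ha'z hs))
  have e := h.cz_eq_of_small haz (hc t ht htq a ha hat) hs
  have hsa : sz a = n₂ := by rw [← hs, sz, sz, e]
  rcases h.relIndex_centralizer hk haz hsa (mem_cz.1 (e ▸ hv))
    (orderOf_coprime_of_isQ hq ht htq.symm hvq hat) with hr | hr
  · rw [e]
    exact relIndex_eq_one.1 hr
  · exfalso
    obtain ⟨p₁, p₂, hp₁, hp₂, hne, hd₁, hd₂⟩ := h.exists_two_dvd hk hns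
    have key : ∀ p : ℕ, p.Prime → p ≠ q → ¬ p ∣ k := fun p hp hpq hpk => by
      haveI : Fact p.Prime := ⟨hp⟩
      obtain ⟨T, hT, hTp, hTi⟩ := exists_sylow_in p (cz a)
      refine hTi ((hr ▸ hpk).trans (relIndex_dvd_of_le_left _ fun d hd => mem_cz.2 ?_))
      exact (mem_cz.1 (hc p hp hpq d (e.symm ▸ hT hd) (IsQ.of_mem hTp hd) hv)).symm
    by_cases h1 : p₁ = q
    · exact key p₂ hp₂ (fun e' => hne (h1.trans e'.symm)) hd₂
    · exact key p₁ hp₁ h1 hd₁

theorem le_cz_of_small (h : Sizes G n₁ n₂) (hk : n₁ = n₂ * k) (hns : ¬ Group.IsSolvable G)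
    {q : ℕ} (hq : q.Prime) {w : G} (hwq : IsQ q w) (hw : w ∉ center G) (hs : sz w = n₂)
    {t : ℕ} (ht : t.Prime) {d : G} (hd : d ∈ cz w) (hdt : IsQ t d) : cz w ≤ cz d := by
  have abel : ∀ {q : ℕ}, q.Prime → ∀ {w : G}, w ∉ center G → sz w = n₂ →
      (∀ t : ℕ, t.Prime → t ≠ q → ∀ d ∈ cz w, IsQ t d → cz w ≤ cz d) →
      ∀ {t : ℕ}, t.Prime → ∀ d ∈ cz w, IsQ t d → cz w ≤ cz d := by
    intro q hq w hw hs hc t ht d hd hdt
    by_cases htq : t = q
    · subst htq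
      exact h.le_cz_of_regular_central hk hns hq hw hs hc hd hdt
    · exact hc t ht htq d hd hdt
  obtain ⟨p₁, p₂, hp₁, hp₂, hne, hd₁, hd₂⟩ := h.exists_two_dvd hk hns
  rcases h.centralizer_cases hk hq hwq hw hs with hc | ⟨e, he⟩ | ⟨l, hl, hkp, hc⟩
  · exact abel hq hw hs hc ht d hd hdt
  · exact absurd (((Nat.prime_dvd_prime_iff_eq hp₁ hq).1 (hp₁.dvd_of_dvd_pow (he ▸ hd₁))).trans
      ((Nat.prime_dvd_prime_iff_eq hp₂ hq).1 (hp₂.dvd_of_dvd_pow (he ▸ hd₂))).symm) hne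
  · obtain ⟨u, hu, hug, huq, hul⟩ := exists_third_prime hns hq hl
    obtain ⟨a', ha', ha'z⟩ := exists_isQ_of_dvd_index hu hug
    obtain ⟨a, ha, hau, haz⟩ := exists_isQ_of_dvd hu
      ((dvd_mz hu ha' (mem_cz.2 (Commute.refl a')) ha'z).trans (h.mz_dvd hk ha'z hs))
    have e := h.cz_eq_of_small haz (hc u hu huq hul a ha hau) hs
    have hsa : sz a = n₂ := by rw [← hs, sz, sz, e]
    rw [e] at hd ⊢
    rcases h.centralizer_cases hk hu hau haz hsa with hc' | ⟨i, hi⟩ | ⟨l', hl', hkp', -⟩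
    · exact abel hu haz hsa hc' ht d hd hdt
    · exact absurd (((Nat.prime_dvd_prime_iff_eq hp₁ hu).1 (hp₁.dvd_of_dvd_pow (hi ▸ hd₁))).trans
        ((Nat.prime_dvd_prime_iff_eq hp₂ hu).1 (hp₂.dvd_of_dvd_pow (hi ▸ hd₂))).symm) hne
    · exfalso
      have hne' : ∀ p : ℕ, p.Prime → p ∣ k → p = l' := fun p hp hpk =>
        (hkp' p hp hpk).resolve_left fun e' => (hkp p hp hpk).elim
          (fun e'' => huq (e'.symm.trans e'')) (fun e'' => hul (e'.symm.trans e''))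
      exact hne ((hne' p₁ hp₁ hd₁).trans (hne' p₂ hp₂ hd₂).symm)

end Sizes

/-- Comparable centralisers of non-central elements are equal. -/
def Incomparable (G : Type u) [Group G] : Prop :=
  ∀ x y : G, x ∉ center G → y ∉ center G → cz x ≤ cz y → cz x = cz y

theorem Sizes.incomparable {n₁ n₂ : ℕ} (h : Sizes G n₁ n₂) (hns : ¬ Group.IsSolvable G) :
    Incomparable G := by
  intro x y hx hy hle
  rcases h.cases hx with hsx | hsx
  · exact h.cz_eq_of_small hy hle hsx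
  rcases h.cases hy with hsy | hsy
  · have hd := sz_dvd_of_le hle
    rw [hsx, hsy] at hd
    obtain ⟨k, hk⟩ := hd
    obtain ⟨q, hq, w, hwy, hwq, hwz⟩ := exists_isQ_power hy
    have e := h.cz_eq_of_small hwz (le_cz_of_mem_zpowers hwy) hsy
    have hsw : sz w = n₂ := by rw [← hsy, sz, sz, e]
    have hab : cz w ≤ centralizer (cz w : Set G) := le_of_forall_isQ fun t ht d hd hdt =>
      mem_centralizer_iff.2 fun u hu =>
        (mem_cz.1 (h.le_cz_of_small hk hns hq hwq hwz hsw ht hd hdt hu)).eq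
    refine le_antisymm hle fun u hu => mem_cz.2 ?_
    rw [e] at hle hu
    exact (mem_centralizer_iff.1 (hab (hle (mem_cz.2 (Commute.refl x)))) u hu)
  · exact cz_eq_of_le hle (by rw [hsx, hsy])

end Cfsg.Agent.H86.ThreeSizes
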