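import Cfsg.Agent.H86.ThreeSizes.Basic
import Cfsg.Agent.H39.Basic

/-!
# The normaliser of the centraliser of a `q`-element

If the centraliser of a `q`-element `z` controls the `q`- and `s`-elements it contains, then a Sylow
`q`-subgroup normalising it acts on its `s`-part without non-central fixed points.
-/

set_option autoImplicit false
set_option linter.style.haveILetI false
set_option linter.unusedSectionVars false

namespace Cfsg.Agent.H86.ThreeSizes

open Subgroup
open Cfsg.Agent.Hall.TwoSizes (IsQ)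
open Cfsg.Agent.H86.ClassSizes

universe u

variable {G : Type u} [Group G] [Finite G]

/-- The centraliser of `z` controls the `q`- and `s`-elements it contains. -/
structure Tight (q s : ℕ) (z : G) : Prop where
  le : ∀ d ∈ cz z, IsQ q d ∨ IsQ s d → cz z ≤ cz d
  ndvd : ∀ d ∈ cz z, IsQ q d ∨ IsQ s d → d ∉ center G → ¬ q ∣ (cz z).relIndex (cz d)

theorem relIndex_eq_one_of_ndvd {q : ℕ} [Fact q.Prime] {A Q : Subgroup G} (hQ : IsPGroup q ↥Q)
    (h : ¬ q ∣ A.relIndex Q) : A.relIndex Q = 1 := by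
  obtain ⟨n, hn⟩ := hQ.index (A.subgroupOf Q)
  rcases Nat.eq_zero_or_pos n with rfl | h0
  · exact hn.trans (pow_zero q)
  · exact absurd ((dvd_pow_self q h0.ne').trans (dvd_of_eq hn.symm)) h

theorem mem_sylow_in {q : ℕ} [Fact q.Prime] {z w : G} {A : Subgroup G} (hA : A ≤ cz z)
    (hAp : IsPGroup q ↥A) (hAi : ¬ q ∣ A.relIndex (cz z)) (hw : IsQ q w) (hwz : w ∈ cz z)
    (hc : cz z ≤ cz w) : w ∈ A := by
  have hn : A ≤ normalizer (zpowers w : Set G) := by
    refine le_trans ?_ (centralizer_le_normalizer _)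
    intro a ha
    refine mem_centralizer_iff.2 fun y hy => ?_
    exact (mem_cz.1 (le_cz_of_mem_zpowers hy (hc (hA ha)))).eq.symm
  have hQ : IsPGroup q ↥(A ⊔ zpowers w : Subgroup G) :=
    hAp.to_sup_of_normal_right' (isPGroup_zpowers_of_isQ hw) hn
  have h1 : ¬ q ∣ A.relIndex (A ⊔ zpowers w) := fun h => hAi (h.trans
    ⟨_, (relIndex_mul_relIndex _ _ _ le_sup_left (sup_le hA (by rwa [zpowers_le]))).symm⟩)
  exact relIndex_eq_one.1 (relIndex_eq_one_of_ndvd hQ h1) (mem_sup_right (mem_zpowers w))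

namespace Tight

variable {q s : ℕ} {z : G}

/-- A `q`-group extending a Sylow subgroup of the centraliser has no new elements commuting with a
non-central `q`- or `s`-element of the centraliser. -/
theorem mem_of_commute [Fact q.Prime] (h : Tight q s z) {A Q : Subgroup G} (hQ : IsPGroup q ↥Q)
    (hAQ : A ≤ Q) (hA : A ≤ cz z) (hAi : ¬ q ∣ A.relIndex (cz z)) {d n : G} (hd : d ∈ cz z)
    (hdq : IsQ q d ∨ IsQ s d) (hdz : d ∉ center G) (hn : n ∈ Q) (hc : Commute n d) : n ∈ A := by
  have hle := h.le d hd hdq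
  have hAd : A ≤ Q ⊓ cz d := le_inf hAQ (hA.trans hle)
  have h1 : ¬ q ∣ A.relIndex (Q ⊓ cz d) := fun hq => by
    have h2 := hq.trans ⟨_, (relIndex_mul_relIndex _ _ _ hAd inf_le_right).symm⟩
    rw [← relIndex_mul_relIndex A (cz z) (cz d) hA hle] at h2
    exact ((Nat.Prime.dvd_mul Fact.out).1 h2).elim hAi (h.ndvd d hd hdq hdz)
  exact relIndex_eq_one.1 (relIndex_eq_one_of_ndvd (hQ.to_le inf_le_left) h1) ⟨hn, mem_cz.2 hc⟩

/-- The `s`-elements of the centraliser. -/
def sPart (h : Tight q s z) : Subgroup G where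
  carrier := {d | d ∈ cz z ∧ IsQ s d}
  one_mem' := ⟨one_mem _, 0, one_pow _⟩
  mul_mem' := fun {_ b} ha hb =>
    ⟨mul_mem ha.1 hb.1, ha.2.mul hb.2 (mem_cz.1 (h.le b hb.1 (Or.inr hb.2) ha.1))⟩
  inv_mem' := fun ha => ⟨inv_mem ha.1, ha.2.inv⟩

theorem mem_sPart {h : Tight q s z} {d : G} : d ∈ h.sPart ↔ d ∈ cz z ∧ IsQ s d := Iff.rfl

theorem isPGroup_sPart [Fact s.Prime] (h : Tight q s z) : IsPGroup s ↥h.sPart := fun d => by
  obtain ⟨k, hk⟩ := d.2.2
  exact ⟨k, Subtype.ext (by simpa using hk)⟩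

/-- If a Sylow `q`-subgroup of the centraliser is not one of the group, some `q`-element normalises
the centraliser and commutes with none of its non-central `s`-elements. -/
theorem exists_normalizing [hq : Fact q.Prime] (h : Tight q s z) (hz : IsQ q z)
    (hd : q ∣ sz z) :
    ∃ n : G, n ∉ cz z ∧ IsQ q n ∧ (∀ y ∈ cz z, n * y * n⁻¹ ∈ cz z) ∧
      ∀ d ∈ cz z, IsQ s d → Commute n d → d ∈ center G := by
  obtain ⟨A, hA, hAp, hAi⟩ := exists_sylow_in q (cz z)
  have hzA : z ∈ A := mem_sylow_in hA hAp hAi hz (mem_cz.2 (Commute.refl z)) le_rfl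
  obtain ⟨S, hS⟩ := hAp.exists_le_sylow
  have hne : A < (S : Subgroup G) := lt_of_le_of_ne hS fun e => not_dvd_sz (e ▸ hA) hd
  obtain ⟨n, hnS, hnA, hnN⟩ := H39.exists_mem_normalizer_not_mem S.isPGroup' hne
  have hnc : n ∉ cz z := fun hc => hnA (by
    by_contra hcon
    have h1 : ¬ q ∣ A.relIndex ((S : Subgroup G) ⊓ cz z) := fun hq' => hAi (hq'.trans
      ⟨_, (relIndex_mul_relIndex _ _ _ (le_inf hS hA) inf_le_right).symm⟩)
    exact hcon (relIndex_eq_one.1
      (relIndex_eq_one_of_ndvd (S.isPGroup'.to_le inf_le_left) h1) ⟨hnS, hc⟩))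
  refine ⟨n, hnc, IsQ.of_mem S.isPGroup' hnS, fun y hy => mem_cz.2 ?_, fun d hd' hds hc => ?_⟩
  · have ha : n⁻¹ * z * n ∈ A := by
      have := mem_normalizer_iff''.1 hnN z
      exact this.1 hzA
    have h2 := commute_conj n (mem_cz.1 (h.le _ (hA ha) (Or.inl (IsQ.of_mem hAp ha)) hy))
    rwa [show n * (n⁻¹ * z * n) * n⁻¹ = z by group] at h2
  · by_contra hdz
    exact hnA (h.mem_of_commute S.isPGroup' hS hA hAi hd' (Or.inr hds) hdz hnS hc)

/-- If such an element exists and the `s`-part of the centraliser has order `s` modulo the centre,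
then `q < s`. -/
theorem lt_of_normalizing [hq : Fact q.Prime] [hs : Fact s.Prime] (h : Tight q s z) (hqs : q ≠ s)
    {n : G} (hn : IsQ q n) (hnz : ∀ y ∈ cz z, n * y * n⁻¹ ∈ cz z)
    (hfix : ∀ d ∈ cz z, IsQ s d → Commute n d → d ∈ center G)
    (h1 : s ∣ mz z) (h2 : ¬ s ^ 2 ∣ mz z) : q < s := by
  classical
  set M := h.sPart with hM
  have hstab : ∀ p ∈ zpowers n, ∀ y ∈ M, p * y * p⁻¹ ∈ M := by
    intro p hp
    obtain ⟨k, rfl⟩ := (mem_powers_iff_mem_zpowers.2 hp)
    induction k with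
    | zero => intro y hy; simpa using hy
    | succ k ih =>
      intro y hy
      have h3 := ih (mem_powers_iff_mem_zpowers.1 ⟨k, rfl⟩) y hy
      simp only [pow_succ']
      rw [show n * n ^ k * y * (n * n ^ k)⁻¹ = n * (n ^ k * y * (n ^ k)⁻¹) * n⁻¹ by group]
      exact ⟨hnz _ h3.1, h3.2.conj n⟩
  letI : MulAction ↥(zpowers n) ↥M :=
    { smul := fun p d => ⟨(p : G) * d * (p : G)⁻¹, hstab p p.2 d d.2⟩
      one_smul := fun d => Subtype.ext (show (1 : G) * d * (1 : G)⁻¹ = d by group)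
      mul_smul := fun p p' d => Subtype.ext
        (show ((p : G) * p') * d * ((p : G) * p')⁻¹ = p * (p' * d * (p' : G)⁻¹) * (p : G)⁻¹ by
          group) }
  have hcount := (isPGroup_zpowers_of_isQ hn).card_modEq_card_fixedPoints ↥M
  have hfixed : Nat.card (MulAction.fixedPoints ↥(zpowers n) ↥M) =
      Nat.card ↥((center G).subgroupOf M) := by
    refine Nat.card_congr (Equiv.subtypeEquivRight fun d => ?_)
    constructor
    · intro hd
      refine hfix d d.2.1 d.2.2 (?_ : (n : G) * d = d * n)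
      have := congrArg Subtype.val (hd ⟨n, mem_zpowers n⟩)
      exact mul_inv_eq_iff_eq_mul.1 this
    · intro hd p
      refine Subtype.ext (show (p : G) * d * (p : G)⁻¹ = d from ?_)
      have e : (p : G) * d = d * p := mem_center_iff.1 hd p
      rw [e, mul_inv_cancel_right]
  rw [hfixed, ← Subgroup.card_mul_index ((center G).subgroupOf M)] at hcount
  set N := (center G).subgroupOf M with hN
  obtain ⟨i, hi⟩ := h.isPGroup_sPart.index N
  have hdvd : N.index ∣ mz z := by
    have hle : M ⊔ center G ≤ cz z := sup_le (fun _ hd => hd.1) (center_le_cz z)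
    have e := relIndex_mul_relIndex _ _ _ (le_sup_right : center G ≤ M ⊔ center G) hle
    rw [relIndex_sup_right] at e
    exact ⟨_, e.symm⟩
  have hi1 : i = 1 := by
    rw [hi] at hdvd
    refine le_antisymm ?_ ?_
    · by_contra hcon
      exact h2 ((pow_dvd_pow s (by omega)).trans hdvd)
    · rcases Nat.eq_zero_or_pos i with h0 | h0
      · exfalso
        obtain ⟨d, hd, hds, hdz⟩ := exists_isQ_of_dvd hs.out h1
        rw [h0, pow_zero, index_eq_one] at hi
        have : (⟨d, hd, hds⟩ : ↥M) ∈ N := hi ▸ mem_top _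
        exact hdz this
      · exact h0
  rw [hi, hi1, pow_one] at hcount
  obtain ⟨j, hj⟩ := IsPGroup.iff_card.1 (h.isPGroup_sPart.to_subgroup N)
  have hco : Nat.Coprime q (Nat.card ↥N) := hj ▸ ((Nat.coprime_primes hq.out hs.out).2 hqs).pow_right j
  have h3 : 1 ≡ s [MOD q] := by
    refine (Nat.ModEq.cancel_left_of_coprime hco (c := Nat.card ↥N) ?_).symm
    rwa [mul_one]
  have h4 := Nat.le_of_dvd (Nat.sub_pos_of_lt hs.out.one_lt)
    ((Nat.modEq_iff_dvd' hs.out.one_le).1 h3)
  omega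

end Tight

end Cfsg.Agent.H86.ThreeSizes
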