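import Cfsg.Agent.H86.ThreeSizes.Divide

/-!
# Two non-trivial class sizes force solvability

If no centraliser of a non-central element properly contains another one, either the group has few
`p`-regular class sizes, or all centralisers are abelian and there are two classes of them, which is
impossible by counting elements.
-/

set_option autoImplicit false
set_option linter.style.haveILetI false
set_option linter.unusedSectionVars false

namespace Cfsg.Agent.H86.ThreeSizes

open Subgroup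
open Cfsg.Agent.Hall.TwoSizes (IsQ)
open Cfsg.Agent.H86.ClassSizes

universe u

variable {G : Type u} [Group G] [Finite G]

theorem conj_mem_cz_iff (g : G) {x v : G} : g * v * g⁻¹ ∈ cz (g * x * g⁻¹) ↔ v ∈ cz x :=
  ⟨fun h => by simpa [mul_assoc] using mem_cz.2 (commute_conj g⁻¹ (mem_cz.1 h)),
    fun h => mem_cz.2 (commute_conj g (mem_cz.1 h))⟩

/-- All centralisers of non-central elements are abelian and involve two primes modulo the centre. -/
structure Abelian (G : Type u) [Group G] : Prop where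
  le : ∀ x : G, x ∉ center G → ∀ a ∈ cz x, cz x ≤ cz a
  two : ∀ x : G, x ∉ center G → ∀ r : ℕ, r.Prime → ∃ t : ℕ, t.Prime ∧ t ∣ mz x ∧ t ≠ r

/-- The centraliser of `x` is not its own normaliser. -/
def Normed (x : G) : Prop := ∃ n : G, n ∉ cz x ∧ ∀ y ∈ cz x, n * y * n⁻¹ ∈ cz x

theorem abelian_of_incomparable (hF : Incomparable G)
    (htwo : ∀ x : G, x ∉ center G → ∀ r : ℕ, r.Prime → ∃ t : ℕ, t.Prime ∧ t ∣ mz x ∧ t ≠ r) :
    Abelian G := by
  refine ⟨fun x hx a ha => ?_, htwo⟩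
  obtain ⟨p, hp, w, hwx, hwp, hwz⟩ := exists_isQ_power hx
  have e := hF x w hx hwz (le_cz_of_mem_zpowers hwx)
  rw [e] at ha ⊢
  have step : ∀ {p : ℕ}, p.Prime → ∀ {w : G}, IsQ p w → w ∉ center G →
      ∀ {t : ℕ}, t.Prime → t ≠ p → ∀ d ∈ cz w, IsQ t d → cz w ≤ cz d := by
    intro p hp w hw hwz t ht htp d hd hdt
    have hc : Commute d w := mem_cz.1 hd
    have hco := orderOf_coprime_of_isQ ht hp htp hdt hw
    have hz : d * w ∉ center G := fun hz => hwz <| by
      obtain ⟨i, hi⟩ := mem_zpowers_iff.1 (mem_zpowers_mul hc.symm hco.symm)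
      rw [← hi, ← hc.eq]
      exact zpow_mem hz i
    rw [← hF _ w hz hwz (cz_mul_le_right hc hco)]
    exact cz_mul_le_left hc hco
  obtain ⟨t, ht, htw, htp⟩ := htwo w hwz p hp
  obtain ⟨y, hy, hyt, hyz⟩ := exists_isQ_of_dvd ht htw
  have e' := hF w y hwz hyz (step hp hwp hwz ht htp y hy hyt)
  have hab : cz w ≤ centralizer (cz w : Set G) := le_of_forall_isQ fun s hs d hd hds =>
    mem_centralizer_iff.2 fun u hu => by
      refine (mem_cz.1 (?_ : u ∈ cz d)).eq
      by_cases hsp : s = p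
      · subst hsp
        rw [e'] at hd hu
        exact step ht hyt hyz hs htp.symm d hd hds hu
      · exact step hp hwp hwz hs hsp d hd hds hu
  exact fun u hu => mem_cz.2 (mem_centralizer_iff.1 (hab ha) u hu)

namespace Abelian

theorem cz_eq (A : Abelian G) {x a : G} (hx : x ∉ center G) (ha : a ∈ cz x) (haz : a ∉ center G) :
    cz x = cz a :=
  le_antisymm (A.le x hx a ha) (A.le a haz x (mem_cz.2 (mem_cz.1 ha).symm))

theorem tight (A : Abelian G) {q : ℕ} (hq : q.Prime) (s : ℕ) {z : G} (hz : z ∉ center G) :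
    Tight q s z :=
  ⟨fun d hd _ => A.le z hz d hd, fun d hd _ hdz h => by
    rw [A.cz_eq hz hd hdz, relIndex_self] at h
    exact hq.not_dvd_one h⟩

theorem exists_anchor (A : Abelian G) {x : G} (hx : x ∉ center G) :
    ∃ q : ℕ, q.Prime ∧ q ∣ mz x ∧ (q ^ 2 ∣ mz x ∨ ¬ q ∣ sz x) := by
  by_contra hcon
  push Not at hcon
  obtain ⟨q, hq, hqx, -⟩ := A.two x hx 2 Nat.prime_two
  obtain ⟨s, hs, hsx, hsq⟩ := A.two x hx q hq
  have key : ∀ {q s : ℕ}, q.Prime → s.Prime → q ≠ s → q ∣ mz x → s ∣ mz x → q < s := by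
    intro q s hq hs hqs hqx hsx
    haveI : Fact q.Prime := ⟨hq⟩
    haveI : Fact s.Prime := ⟨hs⟩
    obtain ⟨z, hz, hzq, hzz⟩ := exists_isQ_of_dvd hq hqx
    have e := A.cz_eq hx hz hzz
    have T := A.tight hq s hzz
    obtain ⟨n, -, hn, hnz, hfix⟩ := T.exists_normalizing hzq
      (by rw [sz, ← e]; exact (hcon q hq hqx).2)
    exact T.lt_of_normalizing hqs hn hnz hfix (by rw [mz, ← e]; exact hsx)
      (by rw [mz, ← e]; exact (hcon s hs hsx).1)
  exact lt_asymm (key hq hs hsq.symm hqx hsx) (key hs hq hsq hsx hqx)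

/-- Centralisers of the same index are conjugate. -/
theorem exists_conj (A : Abelian G) {x y : G} (hx : x ∉ center G) (hy : y ∉ center G)
    (h : sz x = sz y) : ∃ g : G, ∀ v : G, v ∈ cz y ↔ g * v * g⁻¹ ∈ cz x := by
  obtain ⟨q, hq, hqx, hbig⟩ := A.exists_anchor hx
  haveI : Fact q.Prime := ⟨hq⟩
  obtain ⟨z, hz, hzq, hzz⟩ := exists_isQ_of_dvd hq hqx
  obtain ⟨S, z₀, D⟩ := exists_centralData (dvd_index_of_isQ hq hzq hzz)
  obtain ⟨s, hs, hs0, hsq⟩ := A.two z₀ D.nc q hq
  have key : ∀ x' : G, x' ∉ center G → sz x' = sz x → ∃ g : G, ∀ v : G,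
      v ∈ cz x' ↔ g * v * g⁻¹ ∈ cz z₀ := by
    intro x' hx' hs'
    obtain ⟨w, hw, hwq, hwz⟩ := exists_isQ_of_dvd hq ((mz_eq_of_sz_eq hs').symm ▸ hqx)
    have e := A.cz_eq hx' hw hwz
    have e2 : sz w = sz x := by rw [← hs', sz, sz, e]
    obtain ⟨g, hg⟩ := eq_conj_of_big D hs hsq.symm (A.tight hq s D.nc) hs0
      (fun v _ hv d hd _ => A.le v hv d hd) hwq hwz
      (by rw [mz_eq_of_sz_eq e2, e2]; exact hbig)
    exact ⟨g, fun v => by rw [e, ← hg, conj_mem_cz_iff]⟩
  obtain ⟨a, ha⟩ := key x hx rfl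
  obtain ⟨b, hb⟩ := key y hy h.symm
  refine ⟨a⁻¹ * b, fun v => ?_⟩
  rw [hb, ha, show a * (a⁻¹ * b * v * (a⁻¹ * b)⁻¹) * a⁻¹ = b * v * b⁻¹ by group]

theorem mem_of_isQ_of_coprime {N : Subgroup G} [N.Normal] {t : ℕ} (ht : t.Prime) {w : G}
    (hw : IsQ t w) (h : ¬ t ∣ N.index) : w ∈ N := by
  obtain ⟨i, hi⟩ := hw
  refine (QuotientGroup.eq_one_iff w).1 (orderOf_eq_one_iff.1 (Nat.eq_one_of_dvd_coprimes
    ((ht.coprime_iff_not_dvd.2 h).pow_left i) (orderOf_dvd_of_pow_eq_one ?_) ?_))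
  · rw [← QuotientGroup.mk_pow, hi, QuotientGroup.mk_one]
  · rw [index_eq_card]
    exact orderOf_dvd_natCard _

/-- If some centraliser is its own normaliser, the group is solvable. -/
theorem isSolvable_of_not_normed (A : Abelian G) {n₁ n₂ : ℕ} (h : Sizes G n₁ n₂) {x : G}
    (hx : x ∉ center G) (hN : ¬ Normed x) : Group.IsSolvable G := by
  classical
  have hxn : ∀ r : ℕ, r.Prime → r ∣ mz x → ¬ r ∣ sz x := by
    intro r hr hrx hd
    haveI : Fact r.Prime := ⟨hr⟩
    obtain ⟨z, hz, hzr, hzz⟩ := exists_isQ_of_dvd hr hrx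
    have e := A.cz_eq hx hz hzz
    obtain ⟨n, hn, -, hnz, -⟩ := (A.tight hr r hzz).exists_normalizing hzr (by rwa [sz, ← e])
    exact hN ⟨n, e ▸ hn, e ▸ hnz⟩
  have hother : ∀ y : G, y ∉ center G → ∀ r : ℕ, r.Prime → r ∣ mz x → r ∣ mz y → sz y = sz x := by
    intro y hy r hr hrx hry
    haveI : Fact r.Prime := ⟨hr⟩
    obtain ⟨S, hS⟩ := exists_sylow_le_cz (hxn r hr hrx)
    obtain ⟨e, he, her, hez⟩ := exists_isQ_of_dvd hr hry
    obtain ⟨g, hg⟩ := exists_conj_mem_sylow her S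
    have h1 := A.cz_eq hx (hS hg) fun hh => hez (Hall.TwoSizes.mem_center_of_conj hh)
    calc sz y = sz e := by rw [sz, sz, A.cz_eq hy he hez]
      _ = sz (g * e * g⁻¹) := (sz_conj g e).symm
      _ = sz x := by rw [sz, sz, h1]
  -- normal complements
  have hcompl : ∀ r : {r // r ∈ (mz x).primeFactors},
      ∃ N : Subgroup G, N.Normal ∧ ¬ (r : ℕ) ∣ Nat.card ↥N ∧
        ∀ t : ℕ, t.Prime → t ≠ r → ¬ t ∣ N.index := by
    rintro ⟨r, hr⟩
    rw [Nat.mem_primeFactors] at hr
    obtain ⟨hrp, hrx, -⟩ := hr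
    haveI : Fact r.Prime := ⟨hrp⟩
    obtain ⟨S, hS⟩ := exists_sylow_le_cz (hxn r hrp hrx)
    have hSC : normalizer ((S : Subgroup G) : Set G) ≤ centralizer ((S : Subgroup G) : Set G) := by
      intro g hg
      obtain ⟨z, hz, hzr, hzz⟩ := exists_isQ_of_dvd hrp hrx
      have hzS : z ∈ (S : Subgroup G) := mem_sylow_in hS S.isPGroup'
        (fun hd => S.not_dvd_index (hd.trans (relIndex_dvd_index_of_le hS)))
        hzr hz (A.le x hx z hz)
      have hgz : g * z * g⁻¹ ∈ cz x := hS ((mem_normalizer_iff.1 hg z).1 hzS)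
      have e1 := A.cz_eq hx hz hzz
      have e2 := A.cz_eq hx hgz fun hh => hzz (Hall.TwoSizes.mem_center_of_conj hh)
      have hgx : g ∈ cz x := by
        by_contra hgn
        refine hN ⟨g, hgn, fun y hy => ?_⟩
        rw [e2, conj_mem_cz_iff, ← e1]
        exact hy
      exact mem_centralizer_iff.2 fun s hs => (mem_cz.1 (A.le x hx g hgx (hS hs))).eq
    refine ⟨(MonoidHom.transferSylow S hSC).ker, inferInstance,
      MonoidHom.not_dvd_card_ker_transferSylow S hSC, fun t ht htr hd => ?_⟩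
    rw [(MonoidHom.ker_transferSylow_isComplement' S hSC).symm.index_eq_card] at hd
    obtain ⟨i, hi⟩ := IsPGroup.iff_card.1 S.isPGroup'
    exact htr ((Nat.prime_dvd_prime_iff_eq ht hrp).1 (ht.dvd_of_dvd_pow (hi ▸ hd)))
  choose N hNn hNc hNi using hcompl
  set K : Subgroup G := ⨅ r, N r with hK
  haveI hKn : K.Normal := normal_iInf_normal hNn
  have hmem : ∀ t : ℕ, t.Prime → ¬ t ∣ mz x → ∀ w : G, IsQ t w → w ∈ K := fun t ht htx w hw =>
    mem_iInf.2 fun r => haveI := hNn r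
      mem_of_isQ_of_coprime ht hw (hNi r t ht fun e => htx (e ▸ Nat.dvd_of_mem_primeFactors r.2))
  have hKc : ∀ r : ℕ, r.Prime → r ∣ mz x → ¬ r ∣ Nat.card ↥K := fun r hr hrx hd =>
    hNc ⟨r, Nat.mem_primeFactors.2 ⟨hr, hrx, index_ne_zero_of_finite⟩⟩
      (hd.trans (card_dvd_of_le (iInf_le N _)))
  have hsK : ∀ w ∈ K, w ∉ center G → sz w ≠ sz x := by
    intro w hw hwz e
    obtain ⟨t, ht, d, hdw, hdt, hdz⟩ := exists_isQ_power hwz
    have htx : t ∣ mz x := mz_eq_of_sz_eq e ▸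
      dvd_mz ht hdt (mem_cz.2 (by
        obtain ⟨i, rfl⟩ := mem_zpowers_iff.1 hdw
        exact (Commute.refl w).zpow_left i)) hdz
    have hdK : d ∈ K := (zpowers_le.2 hw) hdw
    obtain ⟨j, hj⟩ := hdt.orderOf_eq ht
    rcases Nat.eq_zero_or_pos j with rfl | hj0
    · rw [pow_zero, orderOf_eq_one_iff] at hj
      exact hdz (hj ▸ one_mem _)
    · exact hKc t ht htx ((hj ▸ dvd_pow_self t hj0.ne').trans (Subgroup.orderOf_dvd_natCard K hdK))
  have hsub : ∀ v : ↥K, cz v = (cz (v : G)).subgroupOf K := fun v => by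
    ext u
    rw [mem_subgroupOf, mem_cz, mem_cz]
    exact ⟨fun e => congrArg Subtype.val e.eq, fun e => Subtype.ext e.eq⟩
  have hKs : Group.IsSolvable ↥K := by
    by_cases hKz : K ≤ center G
    · exact Group.isSolvable_of_comm fun a b => Subtype.ext (mem_center_iff.1 (hKz b.2) a)
    obtain ⟨w₀, hw₀, hw₀z⟩ := SetLike.not_le_iff_exists.1 hKz
    refine isSolvable_of_two_regular Nat.prime_two (m := (cz w₀).relIndex K) fun v _ => ?_
    rw [sz, hsub, ← relIndex]
    by_cases hv : (v : G) ∈ center G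
    · refine Or.inl (relIndex_eq_one.2 fun u _ => mem_cz.2 ?_)
      exact mem_center_iff.1 hv u
    refine Or.inr ?_
    have hs : sz (v : G) = sz w₀ := by
      have := hsK v v.2 hv
      have := hsK w₀ hw₀ hw₀z
      rcases h.cases hv with a | a <;> rcases h.cases hw₀z with b | b <;>
        rcases h.cases hx with c | c <;> omega
    obtain ⟨g, hg⟩ := A.exists_conj hw₀z hv hs.symm
    set f := (MulAut.conj g).toMonoidHom
    have h1 : (cz (v : G)).map f = cz w₀ := by
      ext u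
      rw [mem_map_equiv, MulAut.conj_symm_apply, hg,
        show g * (g⁻¹ * u * g) * g⁻¹ = u by group]
    have h2 : K.map f = K := by
      ext u
      rw [mem_map_equiv, MulAut.conj_symm_apply]
      exact ⟨fun hu => by simpa [mul_assoc] using hKn.conj_mem _ hu g,
        fun hu => by simpa using hKn.conj_mem _ hu g⁻¹⟩
    rw [← relIndex_map_map_of_injective (cz (v : G)) K (f := f) (MulAut.conj g).injective, h1, h2]
  refine isSolvable_of_forall_mem_rad fun t ht w hw => ?_
  by_cases htx : t ∣ mz x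
  · by_cases hwz : w ∈ center G
    · exact le_rad inferInstance (Group.isSolvable_of_comm fun a b =>
        Subtype.ext (mem_center_iff.1 b.2 a)) hwz
    refine mem_rad_of_coprime_index ?_
    rw [hother w hwz t ht htx (dvd_mz ht hw (mem_cz.2 (Commute.refl w)) hwz)]
    refine Nat.coprime_of_dvd fun l hl hlx hlR => ?_
    haveI : Fact l.Prime := ⟨hl⟩
    have hlm : ¬ l ∣ mz x := fun e => hxn l hl e hlx
    obtain ⟨L⟩ := (inferInstance : Nonempty (Sylow l G))
    exact L.not_dvd_index (hlR.trans ((index_dvd_of_le (le_rad hKn hKs)).trans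
      (index_dvd_of_le fun u hu => hmem l hl hlm u (IsQ.of_mem L.isPGroup' hu))))
  · exact le_rad hKn hKs (hmem t ht htx w hw)

theorem two_mul_card_le {x : G} (h : Normed x) :
    2 * Nat.card ↥(cz x) ≤ Nat.card ↥(normalizer (cz x : Set G)) := by
  obtain ⟨n, hn, hnz⟩ := h
  set f := (MulAut.conj n).toMonoidHom
  have hle : (cz x).map f ≤ cz x := by
    rintro _ ⟨y, hy, rfl⟩
    exact hnz y hy
  have heq := eq_of_le_of_card_ge hle (by rw [card_map_of_injective (MulAut.conj n).injective])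
  have hnN : n ∈ normalizer (cz x : Set G) := by
    refine mem_normalizer_iff.2 fun y => ⟨hnz y, fun hy => ?_⟩
    rw [← heq] at hy
    obtain ⟨u, hu, e⟩ := hy
    exact (MulAut.conj n).injective e ▸ hu
  have hne : (cz x).relIndex (normalizer (cz x : Set G)) ≠ 1 := fun e =>
    hn (relIndex_eq_one.1 e hnN)
  have hne0 : (cz x).relIndex (normalizer (cz x : Set G)) ≠ 0 :=
    index_ne_zero_of_finite (H := (cz x).subgroupOf _)
  have e := relIndex_mul_relIndex ⊥ (cz x) (normalizer (cz x : Set G)) bot_le le_normalizer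
  rw [relIndex_bot_left, relIndex_bot_left] at e
  rw [← e, mul_comm 2]
  exact Nat.mul_le_mul_left _ (by omega)

/-- The elements with a given class size lie in few conjugates of one centraliser. -/
theorem ncard_le (A : Abelian G) {x : G} (hx : x ∉ center G) :
    {y : G | y ∉ center G ∧ sz y = sz x}.ncard ≤
      (normalizer (cz x : Set G)).index * (Nat.card ↥(cz x) - Nat.card ↥(center G)) := by
  classical
  set N := normalizer (cz x : Set G)
  set D : Set G := (cz x : Set G) \ (center G : Set G)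
  let f : (G ⧸ N) × ↥D → G := fun p => p.1.out * p.2 * p.1.out⁻¹
  have hsub : {y : G | y ∉ center G ∧ sz y = sz x} ⊆ Set.range f := by
    rintro y ⟨hy, hs⟩
    obtain ⟨g, hg⟩ := A.exists_conj hx hy hs.symm
    obtain ⟨n, hn⟩ := QuotientGroup.mk_out_eq_mul N g⁻¹
    have hv : g * y * g⁻¹ ∈ cz x := (hg y).1 (mem_cz.2 (Commute.refl y))
    have hv' : (n : G)⁻¹ * (g * y * g⁻¹) * n ∈ cz x :=
      (mem_normalizer_iff''.1 n.2 _).1 hv
    have hvz : (n : G)⁻¹ * (g * y * g⁻¹) * n ∉ center G := fun hh => hy <| by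
      have h1 := (inferInstance : (center G).Normal).conj_mem _ hh (g⁻¹ * n)
      rwa [show g⁻¹ * n * ((n : G)⁻¹ * (g * y * g⁻¹) * n) * (g⁻¹ * n)⁻¹ = y by group] at h1
    refine ⟨(QuotientGroup.mk g⁻¹, ⟨_, hv', hvz⟩), ?_⟩
    show (QuotientGroup.mk g⁻¹ : G ⧸ N).out * _ * (QuotientGroup.mk g⁻¹ : G ⧸ N).out⁻¹ = y
    rw [hn]
    group
  refine (Set.ncard_le_ncard hsub (Set.toFinite _)).trans ?_
  rw [← Set.image_univ]
  refine (Set.ncard_image_le (Set.toFinite _)).trans ?_
  rw [Set.ncard_univ, Nat.card_prod, Nat.card_coe_set_eq, ← index_eq_card,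
    Set.ncard_sdiff (fun v hv => center_le_cz x hv) (Set.toFinite _), ← Nat.card_coe_set_eq,
    ← Nat.card_coe_set_eq]
  rfl

theorem false_of_normed (A : Abelian G) {n₁ n₂ : ℕ} (h : Sizes G n₁ n₂)
    (h₁ : ∃ x : G, sz x = n₁) (h₂ : ∃ x : G, sz x = n₂)
    (hall : ∀ x : G, x ∉ center G → Normed x) : False := by
  classical
  obtain ⟨x₁, hx₁⟩ := h₁
  obtain ⟨x₂, hx₂⟩ := h₂
  have := h.lt
  have := h.one_lt
  have hz : ∀ {x : G} {n : ℕ}, sz x = n → 1 < n → x ∉ center G := fun hs hn hc => by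
    rw [sz_eq_one_iff.2 hc] at hs; omega
  have hz₁ := hz hx₁ (by omega)
  have hz₂ := hz hx₂ h.one_lt
  have hcov : ((center G : Set G))ᶜ ⊆
      {y : G | y ∉ center G ∧ sz y = sz x₁} ∪ {y : G | y ∉ center G ∧ sz y = sz x₂} := by
    intro y hy
    rcases h.cases (show y ∉ center G from hy) with e | e
    · exact Or.inr ⟨hy, e.trans hx₂.symm⟩
    · exact Or.inl ⟨hy, e.trans hx₁.symm⟩
  have e1 := ((Set.ncard_le_ncard hcov (Set.toFinite _)).trans (Set.ncard_union_le _ _)).trans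
    (Nat.add_le_add (A.ncard_le hz₁) (A.ncard_le hz₂))
  rw [Set.ncard_compl, ← Nat.card_coe_set_eq] at e1
  have key : ∀ x : G, x ∉ center G → 2 * (normalizer (cz x : Set G)).index ≤ sz x ∧
      Nat.card ↥(center G) ≤ Nat.card ↥(cz x) ∧ sz x * Nat.card ↥(cz x) = Nat.card G := fun x hx => by
    have h1 := two_mul_card_le (hall x hx)
    have h2 := (normalizer (cz x : Set G)).card_mul_index
    have h3 := (cz x).card_mul_index
    refine ⟨?_, Nat.le_of_dvd Nat.card_pos (card_dvd_of_le (center_le_cz x)),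
      (mul_comm _ _).trans h3⟩
    refine Nat.le_of_mul_le_mul_left ?_ (Nat.card_pos (α := ↥(cz x)))
    calc Nat.card ↥(cz x) * (2 * (normalizer (cz x : Set G)).index)
        = 2 * Nat.card ↥(cz x) * (normalizer (cz x : Set G)).index := by ring
      _ ≤ Nat.card ↥(normalizer (cz x : Set G)) * (normalizer (cz x : Set G)).index :=
          Nat.mul_le_mul_right _ h1
      _ = Nat.card ↥(cz x) * sz x := h2.trans h3.symm
  obtain ⟨a1, b1, c1⟩ := key x₁ hz₁
  obtain ⟨a2, b2, c2⟩ := key x₂ hz₂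
  rw [hx₁] at a1 c1
  rw [hx₂] at a2 c2
  have hp : 0 < Nat.card ↥(center G) := Nat.card_pos
  have hle : Nat.card ↥(center G) ≤ Nat.card G := card_le_card_group _
  replace e1 : Nat.card G - Nat.card ↥(center G) ≤ _ := e1
  set g := Nat.card G
  set c := Nat.card ↥(center G)
  set i := (normalizer (cz x₁ : Set G)).index
  set j := (normalizer (cz x₂ : Set G)).index
  set u := Nat.card ↥(cz x₁)
  set v := Nat.card ↥(cz x₂)
  have e2 : g ≤ c + (i * (u - c) + j * (v - c)) := by omega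
  zify [b1, b2] at e2 a1 a2 c1 c2
  nlinarith [mul_le_mul_of_nonneg_right a1 (sub_nonneg.2 (Int.ofNat_le.2 b1)),
    mul_le_mul_of_nonneg_right a2 (sub_nonneg.2 (Int.ofNat_le.2 b2))]

end Abelian

/-- A group with two non-trivial class sizes is solvable. -/
theorem Sizes.isSolvable {n₁ n₂ : ℕ} (h : Sizes G n₁ n₂) (h₁ : ∃ x : G, sz x = n₁)
    (h₂ : ∃ x : G, sz x = n₂) : Group.IsSolvable G := by
  by_contra hns
  by_cases htwo : ∀ x : G, x ∉ center G → ∀ r : ℕ, r.Prime → ∃ t : ℕ, t.Prime ∧ t ∣ mz x ∧ t ≠ r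
  · have A := abelian_of_incomparable (h.incomparable hns) htwo
    by_cases hall : ∀ x : G, x ∉ center G → Normed x
    · exact A.false_of_normed h h₁ h₂ hall
    · push Not at hall
      obtain ⟨x, hx, hN⟩ := hall
      exact hns (A.isSolvable_of_not_normed h hx hN)
  · push Not at htwo
    obtain ⟨x, hx, r, hr, hrx⟩ := htwo
    refine hns (isSolvable_of_two_regular hr (m := if sz x = n₂ then n₁ else n₂) fun v hv => ?_)
    by_cases hvz : v ∈ center G
    · exact Or.inl (sz_eq_one_iff.2 hvz)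
    refine Or.inr ?_
    have hne : sz v ≠ sz x := fun e => by
      obtain ⟨t, ht, d, hdv, hdt, hdz⟩ := exists_isQ_power hvz
      obtain ⟨i, rfl⟩ := mem_zpowers_iff.1 hdv
      have htr := hrx t ht (mz_eq_of_sz_eq e ▸
        dvd_mz ht hdt (mem_cz.2 ((Commute.refl v).zpow_left i)) hdz)
      subst htr
      obtain ⟨j, hj⟩ := hdt.orderOf_eq ht
      have hd : orderOf (v ^ i) ∣ orderOf v :=
        orderOf_dvd_of_mem_zpowers (zpow_mem (mem_zpowers v) i)
      rcases Nat.eq_zero_or_pos j with rfl | hj0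
      · rw [pow_zero, orderOf_eq_one_iff] at hj
        exact hdz (hj ▸ one_mem _)
      · exact ht.coprime_iff_not_dvd.1 hv.symm ((hj ▸ dvd_pow_self t hj0.ne').trans hd)
    have := h.lt
    split_ifs with hsx
    · rcases h.cases hvz with e | e <;> omega
    · rcases h.cases hvz with e | e
      · exact e
      · rcases h.cases hx with e' | e' <;> omega

end Cfsg.Agent.H86.ThreeSizes
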